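import Groth.Prelude.Def_AzInv
import Mathlib.RingTheory.Spectrum.Prime.FreeLocus
import Mathlib.RingTheory.Spectrum.Prime.Topology

/-!
# The rank of the symmetric elements on the ramification locus
-/

set_option autoImplicit false
noncomputable section

universe v w

open scoped TensorProduct

namespace Groth.Agent.AzSign

variable {R : Type v} [CommRing R] (lam : R → R) {A : Type w} [Ring A] [Algebra R A]
  (t : AzInv.LamInv R A lam)

/-- The ramification ideal. -/
def ramI : Ideal R := Ideal.span (Set.range fun r => lam r - r)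

/-- The dimension of the symmetric elements at a prime. -/
def symRank (q : PrimeSpectrum R) : ℕ :=
  Module.finrank q.asIdeal.ResidueField
    (Submodule.span q.asIdeal.ResidueField
      (Set.range fun a : {a : A // t a = a} => (1 : q.asIdeal.ResidueField) ⊗ₜ[R] (a : A)))

theorem exists_nhd [Module.Projective R A] [Module.Finite R A] (h2 : IsUnit (2 : R))
    (q : PrimeSpectrum R) (hq : ∀ r : R, lam r - r ∈ q.asIdeal) :
    ∃ f : R, f ∉ q.asIdeal ∧ ∀ q' : PrimeSpectrum R, (∀ r : R, lam r - r ∈ q'.asIdeal) → f ∉ q'.asIdeal →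
      symRank lam t q' = symRank lam t q := by
  classical
  let B := R ⧸ ramI lam
  obtain ⟨c, hc⟩ := isUnit_iff_exists_inv.1 h2
  have hlam : ∀ r, algebraMap R B (lam r) = algebraMap R B r := fun r =>
    Ideal.Quotient.eq.2 (Ideal.subset_span ⟨r, rfl⟩)
  let P : A →ₗ[R] B ⊗[R] A :=
    { toFun := fun a => algebraMap R B c ⊗ₜ[R] (a + t a)
      map_add' := fun a a' => by rw [t.map_add, add_add_add_comm, TensorProduct.tmul_add]
      map_smul' := fun r a => by
        rw [RingHom.id_apply, t.map_smul, TensorProduct.tmul_add, TensorProduct.tmul_add, smul_add,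
          TensorProduct.smul_tmul', TensorProduct.smul_tmul', ← TensorProduct.smul_tmul, ← TensorProduct.smul_tmul,
          Algebra.smul_def r, Algebra.smul_def (lam r), hlam] }
  let Pb : B ⊗[R] A →ₗ[B] B ⊗[R] A := P.liftBaseChange B
  have hP : ∀ a, P a = algebraMap R B c ⊗ₜ[R] (a + t a) := fun a => rfl
  have hfix : ∀ a, t a = a → P a = (1 : B) ⊗ₜ[R] a := fun a ha => by
    rw [hP, ha, ← two_smul R, TensorProduct.tmul_smul, TensorProduct.smul_tmul', Algebra.smul_def, ← map_mul, hc,
      map_one]
  have hsym : ∀ a, t (a + t a) = a + t a := fun a => by rw [t.map_add, t.invol, add_comm]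
  have hidem : ∀ x, Pb (Pb x) = Pb x := by
    have h1 : ∀ a, Pb (P a) = P a := fun a => by
      rw [hP, LinearMap.liftBaseChange_tmul, hfix _ (hsym a), TensorProduct.smul_tmul', smul_eq_mul, mul_one]
    intro x
    induction x using TensorProduct.induction_on with
    | zero => simp
    | tmul b a => rw [LinearMap.liftBaseChange_tmul, map_smul, h1]
    | add x y hx hy => rw [map_add, map_add, hx, hy]
  let N := LinearMap.range Pb
  have hsec : Pb.rangeRestrict ∘ₗ N.subtype = LinearMap.id := by
    refine LinearMap.ext fun x => Subtype.ext ?_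
    obtain ⟨y, hy⟩ := x.2
    show Pb (x : B ⊗[R] A) = x
    rw [← hy, hidem]
  haveI : Module.Projective B N := Module.Projective.of_split N.subtype Pb.rangeRestrict hsec
  haveI : Module.Finite B N := Module.Finite.of_surjective Pb.rangeRestrict Pb.surjective_rangeRestrict
  haveI : Module.FinitePresentation B N := Module.finitePresentation_of_projective B N
  have key : ∀ (q' : PrimeSpectrum R) (p : PrimeSpectrum B), p.asIdeal.comap (Ideal.Quotient.mk (ramI lam)) = q'.asIdeal →
      symRank lam t q' = Module.rankAtStalk (R := B) N p := by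
    intro q' p hp
    let k := q'.asIdeal.ResidueField
    have hI : ramI lam ≤ q'.asIdeal := hp ▸ fun x hx => by
      rw [Ideal.mem_comap, Ideal.Quotient.eq_zero_iff_mem.2 hx]; exact zero_mem _
    let φ : B →+* k := Ideal.Quotient.lift (ramI lam) (algebraMap R k) fun x hx =>
      Ideal.algebraMap_residueField_eq_zero.2 (hI hx)
    letI : Algebra B k := φ.toAlgebra
    haveI : IsScalarTower R B k := IsScalarTower.of_algebraMap_eq fun r => rfl
    let cc := TensorProduct.AlgebraTensorModule.cancelBaseChange R B k k A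
    let ψ : k ⊗[B] N →ₗ[k] k ⊗[R] A := cc.toLinearMap ∘ₗ N.subtype.baseChange k
    have hinj : Function.Injective ψ := by
      refine cc.injective.comp ?_
      refine Function.LeftInverse.injective (g := Pb.rangeRestrict.baseChange k) fun x => ?_
      rw [← LinearMap.comp_apply, ← LinearMap.baseChange_comp, hsec, LinearMap.baseChange_id, LinearMap.id_apply]
    have hrange : LinearMap.range ψ = Submodule.span k
        (Set.range fun a : {a : A // t a = a} => (1 : k) ⊗ₜ[R] (a : A)) := by
      refine le_antisymm ?_ (Submodule.span_le.2 ?_)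
      · rintro _ ⟨x, rfl⟩
        induction x using TensorProduct.induction_on with
        | zero => rw [map_zero]; exact zero_mem _
        | add x y hx hy => rw [map_add]; exact add_mem hx hy
        | tmul z n =>
          obtain ⟨y, hy⟩ := n.2
          simp only [ψ, LinearMap.comp_apply, LinearMap.baseChange_tmul, Submodule.subtype_apply, ← hy]
          clear hy
          induction y using TensorProduct.induction_on with
          | zero => simp
          | add x y hx hy => rw [map_add, TensorProduct.tmul_add, map_add]; exact add_mem hx hy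
          | tmul b a =>
            rw [LinearMap.liftBaseChange_tmul, hP, TensorProduct.smul_tmul', LinearEquiv.coe_coe,
              TensorProduct.AlgebraTensorModule.cancelBaseChange_tmul]
            set z' := (b • algebraMap R B c) • z
            rw [show z' ⊗ₜ[R] (a + t a) = z' • ((1 : k) ⊗ₜ[R] (a + t a)) by
              rw [TensorProduct.smul_tmul', smul_eq_mul, mul_one]]
            exact Submodule.smul_mem _ _ (Submodule.subset_span ⟨⟨_, hsym a⟩, rfl⟩)
      · rintro _ ⟨⟨a, ha⟩, rfl⟩
        refine ⟨(1 : k) ⊗ₜ ⟨(1 : B) ⊗ₜ[R] a, ⟨(1 : B) ⊗ₜ[R] a, ?_⟩⟩, ?_⟩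
        · rw [LinearMap.liftBaseChange_tmul, one_smul, hfix a ha]
        · simp [ψ, cc]
    let p' : PrimeSpectrum k := ⟨⊥, Ideal.isPrime_bot⟩
    have hp' : PrimeSpectrum.comap (algebraMap B k) p' = p := by
      refine PrimeSpectrum.ext (Ideal.comap_injective_of_surjective (Ideal.Quotient.mk (ramI lam))
        Ideal.Quotient.mk_surjective ?_)
      ext r
      rw [hp]
      show φ (Ideal.Quotient.mk (ramI lam) r) ∈ (⊥ : Ideal k) ↔ _
      rw [Ideal.mem_bot, Ideal.Quotient.lift_mk]
      exact Ideal.algebraMap_residueField_eq_zero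
    rw [← hp', ← Module.rankAtStalk_baseChange (S := k), Module.rankAtStalk_eq_finrank_of_free]
    show Module.finrank k _ = Module.finrank k (k ⊗[B] N)
    rw [← hrange, LinearMap.finrank_range_of_inj hinj]
  have hIle : ∀ q' : PrimeSpectrum R, (∀ r : R, lam r - r ∈ q'.asIdeal) →
      ∃ p : PrimeSpectrum B, p.asIdeal.comap (Ideal.Quotient.mk (ramI lam)) = q'.asIdeal := by
    intro q' hq'
    have hle : ramI lam ≤ q'.asIdeal := Ideal.span_le.2 (by rintro _ ⟨r, rfl⟩; exact hq' r)
    have hk : RingHom.ker (Ideal.Quotient.mk (ramI lam)) ≤ q'.asIdeal := by rw [Ideal.mk_ker]; exact hle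
    refine ⟨⟨q'.asIdeal.map (Ideal.Quotient.mk (ramI lam)),
      Ideal.map_isPrime_of_surjective Ideal.Quotient.mk_surjective hk⟩, ?_⟩
    rw [Ideal.comap_map_of_surjective _ Ideal.Quotient.mk_surjective, ← RingHom.ker_eq_comap_bot]
    exact sup_eq_left.2 hk
  obtain ⟨p, hp⟩ := hIle q hq
  have ho : IsOpen {p' : PrimeSpectrum B | Module.rankAtStalk (R := B) N p' = Module.rankAtStalk (R := B) N p} :=
    Module.isLocallyConstant_rankAtStalk.isOpen_fiber _
  obtain ⟨_, ⟨g, rfl⟩, hpg, hsub⟩ :=
    PrimeSpectrum.isTopologicalBasis_basic_opens.exists_subset_of_mem_open (a := p) (u := {p' : PrimeSpectrum B | Module.rankAtStalk (R := B) N p' = Module.rankAtStalk (R := B) N p}) rfl ho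
  obtain ⟨f, rfl⟩ := Ideal.Quotient.mk_surjective g
  refine ⟨f, fun hf => ?_, fun q' hq' hf => ?_⟩
  · rw [← hp, Ideal.mem_comap] at hf
    exact hpg hf
  · obtain ⟨p', hp'⟩ := hIle q' hq'
    rw [key q' p' hp', key q p hp]
    refine hsub (fun hm => hf ?_)
    rw [← hp', Ideal.mem_comap]
    exact hm

end Groth.Agent.AzSign
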